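import Mathlib

/-!
Interface for the recognition of the Mathieu group of degree 24 by order and element counts:
`Facts G` is what the counting hypothesis gives.
-/

set_option autoImplicit false

namespace Cfsg.Agent.Lib.M24Nse2

universe u

/-- What the order and the numbers of elements of each order give. -/
structure Facts (G : Type u) [Group G] : Prop where
  card : Nat.card G = 244823040
  simple : IsSimpleGroup G
  ord_mem : ∀ g : G,
    orderOf g ∈ ({1, 2, 3, 4, 5, 6, 7, 8, 10, 11, 12, 14, 15, 21, 23} : Finset ℕ)
  c2 : Nat.card {g : G // orderOf g = 2} = 43263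
  c3 : Nat.card {g : G // orderOf g = 3} = 712448
  c4 : Nat.card {g : G // orderOf g = 4} = 5100480
  c5 : Nat.card {g : G // orderOf g = 5} = 4080384
  c6 : Nat.card {g : G // orderOf g = 6} = 20401920
  c7 : Nat.card {g : G // orderOf g = 7} = 11658240
  c8 : Nat.card {g : G // orderOf g = 8} = 15301440
  c10 : Nat.card {g : G // orderOf g = 10} = 12241152
  c11 : Nat.card {g : G // orderOf g = 11} = 22256640
  c12 : Nat.card {g : G // orderOf g = 12} = 40803840
  c14 : Nat.card {g : G // orderOf g = 14} = 34974720
  c15 : Nat.card {g : G // orderOf g = 15} = 32643072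
  c21 : Nat.card {g : G // orderOf g = 21} = 23316480
  c23 : Nat.card {g : G // orderOf g = 23} = 21288960

end Cfsg.Agent.Lib.M24Nse2
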