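import Cfsg.Agent.Lib.M24Nse2.Facts
import Cfsg.Agent.Lib.M23Nse.Hist

/-!
A group of order 244823040 whose numbers of elements of each order take exactly the fifteen values
of the Mathieu group of degree 24: the histogram is forced by divisibility and by the normalisers
and centralisers of the Sylow subgroups of prime order, and simplicity follows by counting.
-/

set_option autoImplicit false
set_option linter.style.haveILetI false
set_option linter.unusedSectionVars false
set_option maxHeartbeats 1000000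

namespace Cfsg.Agent.Lib.M24Nse2

open Finset
open M22Nse57.Hist (cnt cnt_eq_card cnt_pos_of_orderOf exists_orderOf_of_cnt_pos cnt_one card_pow_eq_one
  prime_dvd_succ_cnt card_orderOf_mem)
open M23Nse.Hist (cnt_even cnt_mul_eq orderOf_dvd_normalizer)

universe u

namespace Hist

/-- The fifteen values. -/
def vals : Finset ℕ :=
  {1, 43263, 712448, 4080384, 5100480, 11658240, 12241152, 15301440, 20401920, 21288960,
    22256640, 23316480, 32643072, 34974720, 40803840}

/-- The possible four further element orders. -/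
def cands : List ℕ := [4, 6, 8, 12, 16, 32]

/-- The solutions of `g ^ d = 1` for the four unknown orders. -/
def solCount (a b c e d : ℕ) : ℕ :=
  1 + (if d % 2 = 0 then 43263 else 0) + (if d % 3 = 0 then 712448 else 0) +
    (if d % a = 0 then 5100480 else 0) + (if d % b = 0 then 15301440 else 0) +
    (if d % c = 0 then 20401920 else 0) + (if d % e = 0 then 40803840 else 0)

/-- The conditions on the four unknown orders. -/
def admissible (a b c e : ℕ) : Bool :=
  (a != b && a != c && a != e && b != c && b != e && c != e) &&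
    [1024, 54, 108].all (fun d => solCount a b c e d % d == 0) &&
    [a, b, c, e].all fun x => cands.all fun y => x % y != 0 || [a, b, c, e].contains y

theorem admissible_check :
    (cands.all fun a => cands.all fun b => cands.all fun c => cands.all fun e =>
      !admissible a b c e || (a == 4 && b == 8 && c == 6 && e == 12)) = true := by
  decide +kernel

theorem eq_of_admissible {a b c e : ℕ} (ha : a ∈ cands) (hb : b ∈ cands) (hc : c ∈ cands)
    (he : e ∈ cands) (h : admissible a b c e = true) : a = 4 ∧ b = 8 ∧ c = 6 ∧ e = 12 := by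
  have h0 := admissible_check
  rw [List.all_eq_true] at h0
  have h1 := h0 a ha
  rw [List.all_eq_true] at h1
  have h2 := h1 b hb
  rw [List.all_eq_true] at h2
  have h3 := h2 c hc
  rw [List.all_eq_true] at h3
  have h4 := h3 e he
  rw [h] at h4
  simpa [and_assoc] using h4

/-- A lower bound for a normal subgroup of index `i`. -/
def lowCount (i : ℕ) : ℕ :=
  1 + ((if Nat.Coprime 5 i then 4080384 else 0) + ((if Nat.Coprime 7 i then 11658240 else 0) +
    ((if Nat.Coprime 10 i then 12241152 else 0) + ((if Nat.Coprime 11 i then 22256640 else 0) +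
      ((if Nat.Coprime 14 i then 34974720 else 0) + ((if Nat.Coprime 15 i then 32643072 else 0) +
        ((if Nat.Coprime 21 i then 23316480 else 0) +
          (if Nat.Coprime 23 i then 21288960 else 0))))))))

/-- Only index two passes the count. -/
theorem index_check : ∀ i ∈ Nat.divisors 27648, ∀ j ∈ Nat.divisors 8855,
    1 < i * j → i * j < 244823040 → 244823040 / (i * j) < lowCount (i * j) ∨
      ¬ (244823040 / (i * j) % 11 ≤ 1 ∧ 244823040 / (i * j) % 23 ≤ 1) ∨ i * j = 2 := by
  decide +kernel

theorem sum_seven (f : ℕ → ℕ) {a b c e : ℕ} (hd : a ≠ b ∧ a ≠ c ∧ a ≠ e ∧ b ≠ c ∧ b ≠ e ∧ c ≠ e)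
    (h : ∀ n ∈ [a, b, c, e], n ∉ ({1, 2, 3} : Finset ℕ)) :
    ∑ m ∈ ({1, 2, 3, a, b, c, e} : Finset ℕ), f m = f 1 + f 2 + f 3 + f a + f b + f c + f e := by
  simp only [List.mem_cons, List.not_mem_nil, or_false, forall_eq_or_imp, forall_eq,
    Finset.mem_insert, Finset.mem_singleton, not_or] at h
  obtain ⟨ha, hb, hc, he⟩ := h
  rw [Finset.sum_insert (by simp; omega), Finset.sum_insert (by simp; omega),
    Finset.sum_insert (by simp; omega), Finset.sum_insert (by simp; omega),
    Finset.sum_insert (by simp; omega), Finset.sum_insert (by simp; omega), Finset.sum_singleton]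
  ring

variable {G : Type u} [Group G] [Finite G]

section

variable (hG : Nat.card G = 244823040)
  (hmem : ∀ n, 0 < cnt G n → cnt G n ∈ vals)
  (hex : ∀ v ∈ vals, ∃ n, cnt G n = v)

include hG hex in
/-- Every value is taken exactly once. -/
theorem cnt_inj {m n : ℕ} (hm : 0 < cnt G m) (h : cnt G m = cnt G n) : m = n := by
  classical
  cases nonempty_fintype G
  choose! sec hsec using hex
  have hinj : Set.InjOn sec vals := fun v hv' w hw e => by rw [← hsec v hv', ← hsec w hw, e]
  have hpos : ∀ v ∈ vals, 0 < v := by decide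
  set Ord : Finset ℕ := Finset.univ.image fun g : G => orderOf g with hOrd
  have hsub : vals.image sec ⊆ Ord := by
    intro k hk
    obtain ⟨v, hv', rfl⟩ := Finset.mem_image.mp hk
    obtain ⟨g, hg⟩ := exists_orderOf_of_cnt_pos (G := G) (n := sec v) (by
      rw [hsec v hv']; exact hpos v hv')
    exact Finset.mem_image.mpr ⟨g, Finset.mem_univ g, hg⟩
  have hsum : ∑ k ∈ Ord, cnt G k = ∑ k ∈ vals.image sec, cnt G k := by
    rw [Finset.sum_image hinj, Finset.sum_congr rfl hsec, show ∑ v ∈ vals, v = 244823040 by decide,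
      ← hG, Nat.card_eq_fintype_card, ← Finset.card_univ,
      Finset.card_eq_sum_card_image (fun g : G => orderOf g) Finset.univ]
    exact Finset.sum_congr rfl fun k _ => cnt_eq_card k
  have heq : ∀ k : ℕ, 0 < cnt G k → k = sec (cnt G k) := by
    intro k hk
    obtain ⟨g, hg⟩ := exists_orderOf_of_cnt_pos hk
    have hkO : k ∈ Ord := Finset.mem_image.mpr ⟨g, Finset.mem_univ g, hg⟩
    by_cases hkim : k ∈ vals.image sec
    · obtain ⟨v, hv', rfl⟩ := Finset.mem_image.mp hkim
      rw [hsec v hv']
    · exfalso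
      have h2 := Finset.sum_sdiff (f := fun k => cnt G k) hsub
      have h3 : cnt G k ≤ ∑ j ∈ Ord \ vals.image sec, cnt G j :=
        Finset.single_le_sum (f := fun j => cnt G j) (fun j _ => Nat.zero_le _)
          (Finset.mem_sdiff.mpr ⟨hkO, hkim⟩)
      omega
  rw [heq m hm, h, ← heq n (h ▸ hm)]

include hex in
theorem cnt_two : cnt G 2 = 43263 := by
  obtain ⟨n, hn⟩ := hex 43263 (by decide)
  obtain ⟨g, hg⟩ := exists_orderOf_of_cnt_pos (G := G) (n := n) (by omega)
  have hn0 : 0 < n := hg ▸ orderOf_pos g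
  rcases Nat.lt_or_ge 2 n with h | h
  · have := cnt_even (G := G) h
    omega
  · have hn1 : n ≠ 1 := fun h1 => by
      subst h1
      rw [cnt_one] at hn
      omega
    rwa [show n = 2 by omega] at hn

include hG hmem hex

theorem cnt_prime {p v : ℕ}
    (hp : (p = 3 ∧ v = 712448) ∨ (p = 5 ∧ v = 4080384) ∨ (p = 7 ∧ v = 11658240) ∨
      (p = 11 ∧ v = 22256640) ∨ (p = 23 ∧ v = 21288960)) : cnt G p = v := by
  have hpp : p.Prime := by
    rcases hp with ⟨rfl, -⟩ | ⟨rfl, -⟩ | ⟨rfl, -⟩ | ⟨rfl, -⟩ | ⟨rfl, -⟩ <;> norm_num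
  have hd : p ∣ Nat.card G := by
    rw [hG]; rcases hp with ⟨rfl, -⟩ | ⟨rfl, -⟩ | ⟨rfl, -⟩ | ⟨rfl, -⟩ | ⟨rfl, -⟩ <;> norm_num
  haveI : Fact p.Prime := ⟨hpp⟩
  obtain ⟨x, hx⟩ := exists_prime_orderOf_dvd_card' (G := G) p hd
  have h1 := hmem p (hx ▸ cnt_pos_of_orderOf x)
  have h2 := prime_dvd_succ_cnt (G := G) hpp hd
  simp only [vals, Finset.mem_insert, Finset.mem_singleton] at h1
  rcases hp with ⟨rfl, rfl⟩ | ⟨rfl, rfl⟩ | ⟨rfl, rfl⟩ | ⟨rfl, rfl⟩ | ⟨rfl, rfl⟩ <;> omega

theorem cnt_three : cnt G 3 = 712448 := cnt_prime hG hmem hex (Or.inl ⟨rfl, rfl⟩)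

theorem cnt_five : cnt G 5 = 4080384 := cnt_prime hG hmem hex (Or.inr (Or.inl ⟨rfl, rfl⟩))

theorem cnt_seven : cnt G 7 = 11658240 :=
  cnt_prime hG hmem hex (Or.inr (Or.inr (Or.inl ⟨rfl, rfl⟩)))

theorem cnt_eleven : cnt G 11 = 22256640 :=
  cnt_prime hG hmem hex (Or.inr (Or.inr (Or.inr (Or.inl ⟨rfl, rfl⟩))))

theorem cnt_twentythree : cnt G 23 = 21288960 :=
  cnt_prime hG hmem hex (Or.inr (Or.inr (Or.inr (Or.inr ⟨rfl, rfl⟩))))

theorem exists_sylow {p : ℕ} (hp : p = 5 ∨ p = 7 ∨ p = 11 ∨ p = 23) :
    ∃ P : Sylow p G, Nat.card (P : Subgroup G) = p := by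
  haveI hf : Fact p.Prime := ⟨by rcases hp with rfl | rfl | rfl | rfl <;> norm_num⟩
  obtain ⟨P⟩ : Nonempty (Sylow p G) := inferInstance
  refine ⟨P, ?_⟩
  rw [SmallGroups.card_sylow_eq P (k := 1) (m := 244823040 / p)
    (by rw [hG]; rcases hp with rfl | rfl | rfl | rfl <;> norm_num)
    (by rcases hp with rfl | rfl | rfl | rfl <;> norm_num), pow_one]

/-- The orders divisible by 5, 7, 11 or 23 divide the orders of the Sylow normalisers. -/
theorem orderOf_dvd_bound {p N : ℕ}
    (hp : (p = 5 ∧ N = 240) ∨ (p = 7 ∧ N = 126) ∨ (p = 11 ∧ N = 110) ∨ (p = 23 ∧ N = 253)) {g : G}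
    (hg : p ∣ orderOf g) : orderOf g ∣ N := by
  have hp' : p = 5 ∨ p = 7 ∨ p = 11 ∨ p = 23 := by omega
  haveI hf : Fact p.Prime := ⟨by rcases hp' with rfl | rfl | rfl | rfl <;> norm_num⟩
  obtain ⟨P, hP⟩ := exists_sylow hG hmem hex hp'
  refine orderOf_dvd_normalizer P hP ?_ hg
  rw [hG]
  rcases hp with ⟨rfl, rfl⟩ | ⟨rfl, rfl⟩ | ⟨rfl, rfl⟩ | ⟨rfl, rfl⟩
  · rw [cnt_five hG hmem hex]
  · rw [cnt_seven hG hmem hex]
  · rw [cnt_eleven hG hmem hex]
  · rw [cnt_twentythree hG hmem hex]

/-- The elements of order `p * m` are counted in the centraliser of an element of order `p`. -/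
theorem exists_centralizer {p : ℕ} (hp : p = 5 ∨ p = 7 ∨ p = 11 ∨ p = 23) :
    ∃ x : G, orderOf x = p ∧ ∀ m, p.Coprime m →
      cnt G (p * m) = cnt G p * cnt ↥(Subgroup.centralizer ({x} : Set G)) m := by
  haveI hf : Fact p.Prime := ⟨by rcases hp with rfl | rfl | rfl | rfl <;> norm_num⟩
  obtain ⟨P, hP⟩ := exists_sylow hG hmem hex hp
  obtain ⟨x, hx⟩ := exists_prime_orderOf_dvd_card' (G := G) p
    (hP ▸ Subgroup.card_subgroup_dvd_card _)
  exact ⟨x, hx, fun m hm => cnt_mul_eq P hP hm hx⟩

/-- The element orders divisible by 11 or 23. -/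
theorem orderOf_eleven_or {p : ℕ} (hp : p = 11 ∨ p = 23) {g : G} (hg : p ∣ orderOf g) :
    orderOf g = p := by
  by_contra hne
  obtain ⟨m, hm⟩ := hg
  have hd : orderOf g ∈ Nat.divisors (if p = 11 then 110 else 253) := by
    refine Nat.mem_divisors.mpr ⟨?_, by split <;> norm_num⟩
    rcases hp with rfl | rfl
    · exact orderOf_dvd_bound hG hmem hex (Or.inr (Or.inr (Or.inl ⟨rfl, rfl⟩))) (Dvd.intro m hm.symm)
    · exact orderOf_dvd_bound hG hmem hex (Or.inr (Or.inr (Or.inr ⟨rfl, rfl⟩))) (Dvd.intro m hm.symm)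
  rw [hm] at hd hne
  have hcop : p.Coprime m := by
    rcases hp with rfl | rfl <;> refine (Nat.Prime.coprime_iff_not_dvd (by norm_num)).2 ?_ <;>
      rintro ⟨r, rfl⟩
    · rw [if_pos rfl] at hd
      have := Nat.le_of_dvd (by norm_num) (Nat.mem_divisors.mp hd).1
      have hr : r ≠ 0 := fun h => by subst h; simp at hd
      omega
    · rw [if_neg (by norm_num)] at hd
      have := Nat.le_of_dvd (by norm_num) (Nat.mem_divisors.mp hd).1
      have hr : r ≠ 0 := fun h => by subst h; simp at hd
      omega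
  have hpos : 0 < cnt G (p * m) := hm ▸ cnt_pos_of_orderOf g
  obtain ⟨x, -, hx⟩ := exists_centralizer hG hmem hex (p := p) (by omega)
  have hj := hx m hcop
  have hne' : cnt G (p * m) ≠ cnt G p := fun e => hne (cnt_inj hG hex hpos e)
  have h1 := hmem _ hpos
  have c11 := cnt_eleven hG hmem hex
  have c23 := cnt_twentythree hG hmem hex
  simp only [vals, Finset.mem_insert, Finset.mem_singleton] at h1
  rcases hp with rfl | rfl
  · rw [c11] at hj hne'
    rcases h1 with e | e | e | e | e | e | e | e | e | e | e | e | e | e | e <;> omega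
  · rw [c23] at hj hne'
    rcases h1 with e | e | e | e | e | e | e | e | e | e | e | e | e | e | e <;> omega

theorem cnt_fourteen : cnt G 14 = 34974720 := by
  obtain ⟨x, -, hx⟩ := exists_centralizer hG hmem hex (p := 7) (by omega)
  have hj : cnt G 14 = _ := hx 2 (by norm_num)
  have c7 := cnt_seven hG hmem hex
  have h14 := OrderCount.dvd_card_pow_eq_one (G := G) (n := 14) (by rw [hG]; norm_num)
  rw [card_pow_eq_one (by norm_num), show Nat.divisors 14 = {1, 2, 7, 14} by decide,
    Finset.sum_insert (by decide), Finset.sum_insert (by decide), Finset.sum_insert (by decide),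
    Finset.sum_singleton, cnt_one, cnt_two hex, c7] at h14
  rw [c7] at hj
  have hpos : 0 < cnt G 14 := by
    by_contra h0
    rw [Nat.eq_zero_of_not_pos h0] at h14
    norm_num at h14
  have hne : cnt G 14 ≠ 11658240 := fun e => by
    have := cnt_inj hG hex hpos (e.trans c7.symm)
    norm_num at this
  have h1 := hmem 14 hpos
  simp only [vals, Finset.mem_insert, Finset.mem_singleton] at h1
  rcases h1 with e | e | e | e | e | e | e | e | e | e | e | e | e | e | e <;>
    rw [e] at hj hne h14 ⊢ <;> omega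

theorem cnt_twentyone : cnt G 21 = 23316480 := by
  obtain ⟨x, -, hx⟩ := exists_centralizer hG hmem hex (p := 7) (by omega)
  have hj : cnt G 21 = _ := hx 3 (by norm_num)
  have c7 := cnt_seven hG hmem hex
  have h21 := OrderCount.dvd_card_pow_eq_one (G := G) (n := 21) (by rw [hG]; norm_num)
  rw [card_pow_eq_one (by norm_num), show Nat.divisors 21 = {1, 3, 7, 21} by decide,
    Finset.sum_insert (by decide), Finset.sum_insert (by decide), Finset.sum_insert (by decide),
    Finset.sum_singleton, cnt_one, cnt_three hG hmem hex, c7] at h21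
  rw [c7] at hj
  have hpos : 0 < cnt G 21 := by
    by_contra h0
    rw [Nat.eq_zero_of_not_pos h0] at h21
    norm_num at h21
  have hne : cnt G 21 ≠ 11658240 := fun e => by
    have := cnt_inj hG hex hpos (e.trans c7.symm)
    norm_num at this
  have hne' : cnt G 21 ≠ 34974720 := fun e => by
    have := cnt_inj hG hex hpos (e.trans (cnt_fourteen hG hmem hex).symm)
    norm_num at this
  have h1 := hmem 21 hpos
  simp only [vals, Finset.mem_insert, Finset.mem_singleton] at h1
  rcases h1 with e | e | e | e | e | e | e | e | e | e | e | e | e | e | e <;>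
    rw [e] at hj hne hne' ⊢ <;> omega

/-- The element orders divisible by 7. -/
theorem orderOf_seven {g : G} (hg : 7 ∣ orderOf g) :
    orderOf g = 7 ∨ orderOf g = 14 ∨ orderOf g = 21 := by
  by_contra hne
  have hd : orderOf g ∈ Nat.divisors 126 := Nat.mem_divisors.mpr
    ⟨orderOf_dvd_bound hG hmem hex (Or.inr (Or.inl ⟨rfl, rfl⟩)) hg, by norm_num⟩
  have hcop : Nat.Coprime 7 (orderOf g / 7) :=
    (show ∀ k ∈ Nat.divisors 126, 7 ∣ k → Nat.Coprime 7 (k / 7) by decide +kernel) _ hd hg
  obtain ⟨m, hm⟩ := hg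
  rw [hm] at hne hcop
  rw [Nat.mul_div_cancel_left _ (by norm_num : 0 < 7)] at hcop
  have hpos : 0 < cnt G (7 * m) := hm ▸ cnt_pos_of_orderOf g
  obtain ⟨x, -, hx⟩ := exists_centralizer hG hmem hex (p := 7) (by omega)
  have hj := hx m hcop
  have c7 := cnt_seven hG hmem hex
  have c14 := cnt_fourteen hG hmem hex
  have c21 := cnt_twentyone hG hmem hex
  have n7 : cnt G (7 * m) ≠ 11658240 := fun e => by
    have := cnt_inj hG hex hpos (e.trans c7.symm); omega
  have n14 : cnt G (7 * m) ≠ 34974720 := fun e => by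
    have := cnt_inj hG hex hpos (e.trans c14.symm); omega
  have n21 : cnt G (7 * m) ≠ 23316480 := fun e => by
    have := cnt_inj hG hex hpos (e.trans c21.symm); omega
  have h1 := hmem _ hpos
  simp only [vals, Finset.mem_insert, Finset.mem_singleton] at h1
  rw [c7] at hj
  rcases h1 with e | e | e | e | e | e | e | e | e | e | e | e | e | e | e <;>
    rw [e] at hj n7 n14 n21 <;> omega

/-- The orders 15 and 10, read in the centraliser of an element of order 5. -/
theorem exists_five_data : ∃ x : G, orderOf x = 5 ∧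
    cnt G 15 = 32643072 ∧ cnt G 10 = 12241152 ∧
    cnt ↥(Subgroup.centralizer ({x} : Set G)) 2 = 3 ∧
    cnt ↥(Subgroup.centralizer ({x} : Set G)) 3 = 8 ∧
    ∀ m, Nat.Coprime 5 m →
      cnt G (5 * m) = 4080384 * cnt ↥(Subgroup.centralizer ({x} : Set G)) m := by
  obtain ⟨x, hx5, hx⟩ := exists_centralizer hG hmem hex (p := 5) (by omega)
  have c5 := cnt_five hG hmem hex
  have hx' : ∀ m, Nat.Coprime 5 m →
      cnt G (5 * m) = 4080384 * cnt ↥(Subgroup.centralizer ({x} : Set G)) m := fun m hm => by
    rw [hx m hm, c5]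
  have h15eq : cnt G 15 = 4080384 * cnt ↥(Subgroup.centralizer ({x} : Set G)) 3 :=
    hx' 3 (by norm_num)
  have h10eq : cnt G 10 = 4080384 * cnt ↥(Subgroup.centralizer ({x} : Set G)) 2 :=
    hx' 2 (by norm_num)
  have heven := cnt_even (G := ↥(Subgroup.centralizer ({x} : Set G))) (n := 3) (by norm_num)
  have h15 := OrderCount.dvd_card_pow_eq_one (G := G) (n := 15) (by rw [hG]; norm_num)
  rw [card_pow_eq_one (by norm_num), show Nat.divisors 15 = {1, 3, 5, 15} by decide,
    Finset.sum_insert (by decide), Finset.sum_insert (by decide), Finset.sum_insert (by decide),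
    Finset.sum_singleton, cnt_one, cnt_three hG hmem hex, c5] at h15
  have hpos : 0 < cnt G 15 := by
    by_contra h0
    rw [Nat.eq_zero_of_not_pos h0] at h15
    norm_num at h15
  have c15 : cnt G 15 = 32643072 := by
    have h1 := hmem 15 hpos
    simp only [vals, Finset.mem_insert, Finset.mem_singleton] at h1
    rcases h1 with e | e | e | e | e | e | e | e | e | e | e | e | e | e | e <;>
      rw [e] at h15eq h15 ⊢ <;> omega
  have h10 := OrderCount.dvd_card_pow_eq_one (G := G) (n := 10) (by rw [hG]; norm_num)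
  rw [card_pow_eq_one (by norm_num), show Nat.divisors 10 = {1, 2, 5, 10} by decide,
    Finset.sum_insert (by decide), Finset.sum_insert (by decide), Finset.sum_insert (by decide),
    Finset.sum_singleton, cnt_one, cnt_two hex, c5] at h10
  have hpos' : 0 < cnt G 10 := by
    by_contra h0
    rw [Nat.eq_zero_of_not_pos h0] at h10
    norm_num at h10
  have hne : cnt G 10 ≠ 32643072 := fun e => by
    have := cnt_inj hG hex hpos' (e.trans c15.symm)
    norm_num at this
  have c10 : cnt G 10 = 12241152 := by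
    have h1 := hmem 10 hpos'
    simp only [vals, Finset.mem_insert, Finset.mem_singleton] at h1
    rcases h1 with e | e | e | e | e | e | e | e | e | e | e | e | e | e | e <;>
      rw [e] at h10eq h10 hne ⊢ <;> omega
  exact ⟨x, hx5, c15, c10, by omega, by omega, hx'⟩

theorem cnt_fifteen : cnt G 15 = 32643072 := by
  obtain ⟨x, -, h, -⟩ := exists_five_data hG hmem hex
  exact h

theorem cnt_ten : cnt G 10 = 12241152 := by
  obtain ⟨x, -, -, h, -⟩ := exists_five_data hG hmem hex
  exact h

/-- No elements of order 20 or 30. -/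
theorem cnt_five_mul {m : ℕ} (hm : m = 4 ∨ m = 6) : cnt G (5 * m) = 0 := by
  by_contra h
  obtain ⟨x, -, c15, c10, k2, k3, hx⟩ := exists_five_data hG hmem hex
  have hpos : 0 < cnt G (5 * m) := Nat.pos_of_ne_zero h
  have hj := hx m (by rcases hm with rfl | rfl <;> norm_num)
  have n5 : cnt G (5 * m) ≠ 4080384 := fun e => by
    have := cnt_inj hG hex hpos (e.trans (cnt_five hG hmem hex).symm); omega
  have n10 : cnt G (5 * m) ≠ 12241152 := fun e => by
    have := cnt_inj hG hex hpos (e.trans c10.symm); omega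
  have n15 : cnt G (5 * m) ≠ 32643072 := fun e => by
    have := cnt_inj hG hex hpos (e.trans c15.symm); omega
  have heven := cnt_even (G := ↥(Subgroup.centralizer ({x} : Set G))) (n := m) (by omega)
  have h1 := hmem _ hpos
  simp only [vals, Finset.mem_insert, Finset.mem_singleton] at h1
  have kten : cnt ↥(Subgroup.centralizer ({x} : Set G)) m = 10 := by
    rcases h1 with e | e | e | e | e | e | e | e | e | e | e | e | e | e | e <;>
      rw [e] at hj n5 n10 n15 <;> omega
  obtain ⟨i, hi⟩ := exists_orderOf_of_cnt_pos (G := ↥(Subgroup.centralizer ({x} : Set G)))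
    (n := m) (by omega)
  have hd := OrderCount.dvd_card_pow_eq_one (G := ↥(Subgroup.centralizer ({x} : Set G))) (n := m)
    (hi ▸ orderOf_dvd_natCard i)
  rcases hm with rfl | rfl
  · rw [card_pow_eq_one (by norm_num), show Nat.divisors 4 = {1, 2, 4} by decide,
      Finset.sum_insert (by decide), Finset.sum_insert (by decide),
      Finset.sum_singleton, cnt_one, k2, kten] at hd
    norm_num at hd
  · rw [card_pow_eq_one (by norm_num), show Nat.divisors 6 = {1, 2, 3, 6} by decide,
      Finset.sum_insert (by decide), Finset.sum_insert (by decide), Finset.sum_insert (by decide),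
      Finset.sum_singleton, cnt_one, k2, k3, kten] at hd
    norm_num at hd

/-- The element orders divisible by 5, 7, 11 or 23. -/
theorem orderOf_large {p : ℕ} (hp : p = 5 ∨ p = 7 ∨ p = 11 ∨ p = 23) {g : G}
    (hg : p ∣ orderOf g) : orderOf g ∈ ({5, 7, 10, 11, 14, 15, 21, 23} : Finset ℕ) := by
  simp only [Finset.mem_insert, Finset.mem_singleton]
  rcases hp with rfl | rfl | rfl | rfl
  · have hsub : ∀ m, m = 4 ∨ m = 6 → ¬ 5 * m ∣ orderOf g := fun m hm hd => by
      have hpos := cnt_pos_of_orderOf (g ^ (orderOf g / (5 * m)))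
      rw [orderOf_pow_orderOf_div (orderOf_pos g).ne' hd] at hpos
      exact hpos.ne' (cnt_five_mul hG hmem hex hm)
    have hd : orderOf g ∈ Nat.divisors 240 := Nat.mem_divisors.mpr
      ⟨orderOf_dvd_bound hG hmem hex (Or.inl ⟨rfl, rfl⟩) hg, by norm_num⟩
    have := (show ∀ k ∈ Nat.divisors 240, 5 ∣ k → ¬ 20 ∣ k → ¬ 30 ∣ k → k = 5 ∨ k = 10 ∨ k = 15 by
      decide +kernel) _ hd hg (hsub 4 (Or.inl rfl)) (hsub 6 (Or.inr rfl))
    omega
  · have := orderOf_seven hG hmem hex hg
    omega
  · have := orderOf_eleven_or hG hmem hex (Or.inl rfl) hg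
    omega
  · have := orderOf_eleven_or hG hmem hex (Or.inr rfl) hg
    omega

/-- A further element order has one of the four remaining values. -/
theorem cnt_other {n : ℕ} (hn : 0 < cnt G n)
    (h : n ∉ ({1, 2, 3, 5, 7, 10, 11, 14, 15, 21, 23} : Finset ℕ)) :
    cnt G n = 5100480 ∨ cnt G n = 15301440 ∨ cnt G n = 20401920 ∨ cnt G n = 40803840 := by
  have h1 := hmem n hn
  have key : ∀ m ∈ ({1, 2, 3, 5, 7, 10, 11, 14, 15, 21, 23} : Finset ℕ),
      cnt G n ≠ cnt G m := fun m hm e => h (cnt_inj hG hex hn e ▸ hm)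
  have e1 := key 1 (by decide)
  have e2 := key 2 (by decide)
  have e3 := key 3 (by decide)
  have e5 := key 5 (by decide)
  have e7 := key 7 (by decide)
  have e10 := key 10 (by decide)
  have e11 := key 11 (by decide)
  have e14 := key 14 (by decide)
  have e15 := key 15 (by decide)
  have e21 := key 21 (by decide)
  have e23 := key 23 (by decide)
  rw [cnt_one] at e1
  rw [cnt_two hex] at e2
  rw [cnt_three hG hmem hex] at e3
  rw [cnt_five hG hmem hex] at e5
  rw [cnt_seven hG hmem hex] at e7
  rw [cnt_ten hG hmem hex] at e10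
  rw [cnt_eleven hG hmem hex] at e11
  rw [cnt_fourteen hG hmem hex] at e14
  rw [cnt_fifteen hG hmem hex] at e15
  rw [cnt_twentyone hG hmem hex] at e21
  rw [cnt_twentythree hG hmem hex] at e23
  simp only [vals, Finset.mem_insert, Finset.mem_singleton] at h1
  rcases h1 with e | e | e | e | e | e | e | e | e | e | e | e | e | e | e <;> omega

/-- A further element order divides 27648. -/
theorem dvd_small {n : ℕ} (hn : 0 < cnt G n)
    (h : n ∉ ({1, 2, 3, 5, 7, 10, 11, 14, 15, 21, 23} : Finset ℕ)) : n ∣ 27648 := by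
  obtain ⟨g, rfl⟩ := exists_orderOf_of_cnt_pos hn
  have hG' : orderOf g ∣ 27648 * 8855 := by
    rw [show 27648 * 8855 = 244823040 by norm_num, ← hG]; exact orderOf_dvd_natCard g
  have key : ∀ p : ℕ, p = 5 ∨ p = 7 ∨ p = 11 ∨ p = 23 → p.Prime → Nat.Coprime (orderOf g) p :=
    fun p hp hpp => Nat.Coprime.symm <| hpp.coprime_iff_not_dvd.2 fun hd => h <| by
      have := orderOf_large hG hmem hex hp hd
      simp only [Finset.mem_insert, Finset.mem_singleton] at this ⊢
      omega
  have hcop : Nat.Coprime (orderOf g) 8855 := by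
    rw [show 8855 = 5 * 7 * 11 * 23 by norm_num]
    exact (((key 5 (by omega) (by norm_num)).mul_right (key 7 (by omega) (by norm_num))).mul_right
      (key 11 (by omega) (by norm_num))).mul_right (key 23 (by omega) (by norm_num))
  exact hcop.dvd_of_dvd_mul_right hG'

/-- The elements of order four, six, eight and twelve. -/
theorem exists_rest :
    cnt G 4 = 5100480 ∧ cnt G 8 = 15301440 ∧ cnt G 6 = 20401920 ∧ cnt G 12 = 40803840 := by
  classical
  cases nonempty_fintype G
  have c1 : cnt G 1 = 1 := cnt_one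
  have c2 := cnt_two hex
  have c3 := cnt_three hG hmem hex
  have c5 := cnt_five hG hmem hex
  have c7 := cnt_seven hG hmem hex
  have c10 := cnt_ten hG hmem hex
  have c11 := cnt_eleven hG hmem hex
  have c14 := cnt_fourteen hG hmem hex
  have c15 := cnt_fifteen hG hmem hex
  have c21 := cnt_twentyone hG hmem hex
  have c23 := cnt_twentythree hG hmem hex
  obtain ⟨a, ha⟩ := hex 5100480 (by decide)
  obtain ⟨b, hb⟩ := hex 15301440 (by decide)
  obtain ⟨c, hc⟩ := hex 20401920 (by decide)
  obtain ⟨e, he⟩ := hex 40803840 (by decide)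
  have out : ∀ n ∈ [a, b, c, e],
      0 < cnt G n ∧ n ∉ ({1, 2, 3, 5, 7, 10, 11, 14, 15, 21, 23} : Finset ℕ) := by
    intro n hn
    simp only [List.mem_cons, List.not_mem_nil, or_false] at hn
    have hv : cnt G n = 5100480 ∨ cnt G n = 15301440 ∨ cnt G n = 20401920 ∨
        cnt G n = 40803840 := by
      rcases hn with rfl | rfl | rfl | rfl <;> omega
    refine ⟨by omega, fun h => ?_⟩
    simp only [Finset.mem_insert, Finset.mem_singleton] at h
    rcases h with rfl | rfl | rfl | rfl | rfl | rfl | rfl | rfl | rfl | rfl | rfl <;> omega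
  -- the other element orders
  have hfit : ∀ n : ℕ, 0 < cnt G n →
      n ∉ ({1, 2, 3, 5, 7, 10, 11, 14, 15, 21, 23} : Finset ℕ) → n ∈ [a, b, c, e] := by
    intro n hn h
    rcases cnt_other hG hmem hex hn h with h' | h' | h' | h'
    · simp [cnt_inj hG hex hn (h'.trans ha.symm)]
    · simp [cnt_inj hG hex hn (h'.trans hb.symm)]
    · simp [cnt_inj hG hex hn (h'.trans hc.symm)]
    · simp [cnt_inj hG hex hn (h'.trans he.symm)]
  have hdist : a ≠ b ∧ a ≠ c ∧ a ≠ e ∧ b ≠ c ∧ b ≠ e ∧ c ≠ e := by
    refine ⟨?_, ?_, ?_, ?_, ?_, ?_⟩ <;> rintro rfl <;> omega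
  -- the divisors of an element order occur
  have hdiv : ∀ n ∈ [a, b, c, e], ∀ y : ℕ, y ∣ n →
      y ∉ ({1, 2, 3, 5, 7, 10, 11, 14, 15, 21, 23} : Finset ℕ) → y ∈ [a, b, c, e] := by
    intro n hn y hy hy'
    obtain ⟨g, hg⟩ := exists_orderOf_of_cnt_pos (out n hn).1
    have hgy : orderOf (g ^ (orderOf g / y)) = y :=
      orderOf_pow_orderOf_div (orderOf_pos g).ne' (hg ▸ hy)
    exact hfit y (hgy ▸ cnt_pos_of_orderOf _) hy'
  -- no element of order nine
  have hnine : ∀ n ∈ [a, b, c, e], ¬ 9 ∣ n := by
    intro n hn h9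
    have h := OrderCount.dvd_card_dvd_orderOf (G := G) (n := 9) (M := 9067520) (by norm_num)
      (by rw [hG]; norm_num) (by norm_num)
    rw [Nat.card_eq_fintype_card, Fintype.card_subtype] at h
    have heq : #{g : G | 9 ∣ orderOf g} =
        #{g : G | orderOf g ∈ ({a, b, c, e} : Finset ℕ).filter fun k => 9 ∣ k} := by
      refine congrArg Finset.card (Finset.filter_congr fun g _ =>
        ⟨fun hd => Finset.mem_filter.mpr ⟨?_, hd⟩, fun hd => (Finset.mem_filter.mp hd).2⟩)
      have := hfit (orderOf g) (cnt_pos_of_orderOf g) (by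
        intro hk
        simp only [Finset.mem_insert, Finset.mem_singleton] at hk
        omega)
      simpa using this
    rw [heq, card_orderOf_mem, Finset.sum_filter,
      Finset.sum_insert (by simp; omega), Finset.sum_insert (by simp; omega),
      Finset.sum_insert (by simp; omega), Finset.sum_singleton, ha, hb, hc, he] at h
    have hall : 9 ∣ a ∧ 9 ∣ b ∧ 9 ∣ c ∧ 9 ∣ e := by
      simp only [List.mem_cons, List.not_mem_nil, or_false] at hn
      by_cases p1 : 9 ∣ a <;> by_cases p2 : 9 ∣ b <;> by_cases p3 : 9 ∣ c <;>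
        by_cases p4 : 9 ∣ e <;> simp only [p1, p2, p3, p4, if_true, if_false] at h <;>
        first
          | exact ⟨p1, p2, p3, p4⟩
          | (rcases hn with rfl | rfl | rfl | rfl <;> contradiction)
          | (norm_num at h; done)
    have hsmall : ∀ k ∈ [a, b, c, e], k = 9 ∨ k = 27 := by
      intro k hk
      have hk9 : 9 ∣ k := by
        simp only [List.mem_cons, List.not_mem_nil, or_false] at hk
        rcases hk with rfl | rfl | rfl | rfl
        exacts [hall.1, hall.2.1, hall.2.2.1, hall.2.2.2]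
      have h6 : ¬ 6 ∣ k := fun h6 => by
        have := hdiv k hk 6 h6 (by decide)
        simp only [List.mem_cons, List.not_mem_nil, or_false] at this
        omega
      exact (show ∀ k ∈ Nat.divisors 27648, 9 ∣ k → ¬ 6 ∣ k → k = 9 ∨ k = 27 by decide +kernel) k
        (Nat.mem_divisors.mpr ⟨dvd_small hG hmem hex (out k hk).1 (out k hk).2, by norm_num⟩) hk9 h6
    have := hsmall a (by simp)
    have := hsmall b (by simp)
    have := hsmall c (by simp)
    omega
  -- the four orders
  have hcand : ∀ n ∈ [a, b, c, e], n ∈ cands := by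
    intro n hn
    -- five further divisors are too many
    have hfive : ∀ L : Finset ℕ, L.card = 5 →
        (∀ y ∈ L, y ∉ ({1, 2, 3, 5, 7, 10, 11, 14, 15, 21, 23} : Finset ℕ)) →
        (∀ y ∈ L, y ∣ n) → False := by
      intro L hL hout hdvd
      have hsub : L ⊆ [a, b, c, e].toFinset := fun y hy =>
        List.mem_toFinset.mpr (hdiv n hn y (hdvd y hy) (hout y hy))
      have := (Finset.card_le_card hsub).trans (List.toFinset_card_le _)
      simp only [hL, List.length_cons, List.length_nil] at this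
      omega
    have h64 : ¬ 64 ∣ n := fun hd => hfive {4, 8, 16, 32, 64} rfl (by decide) fun y hy =>
      ((show ∀ y ∈ ({4, 8, 16, 32, 64} : Finset ℕ), y ∣ 64 by decide) y hy).trans hd
    have h24 : ¬ 24 ∣ n := fun hd => hfive {4, 6, 8, 12, 24} rfl (by decide) fun y hy =>
      ((show ∀ y ∈ ({4, 6, 8, 12, 24} : Finset ℕ), y ∣ 24 by decide) y hy).trans hd
    exact (show ∀ k ∈ Nat.divisors 27648,
        k ∉ ({1, 2, 3, 5, 7, 10, 11, 14, 15, 21, 23} : Finset ℕ) → ¬ 9 ∣ k → ¬ 64 ∣ k → ¬ 24 ∣ k →
          k ∈ cands by decide +kernel) n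
      (Nat.mem_divisors.mpr ⟨dvd_small hG hmem hex (out n hn).1 (out n hn).2, by norm_num⟩)
      (out n hn).2 (hnine n hn) h64 h24
  -- solutions of `g ^ d = 1`
  have hsol : ∀ d ∈ [1024, 54, 108], solCount a b c e d % d = 0 := by
    intro d hd
    have hd0 : d ≠ 0 := by rintro rfl; simp at hd
    have hdN : d ∣ Nat.card G := by
      rw [hG]
      exact (show ∀ d ∈ [1024, 54, 108], d ∣ 244823040 by decide) d hd
    have hd1 : d % 5 ≠ 0 ∧ d % 7 ≠ 0 ∧ d % 11 ≠ 0 ∧ d % 23 ≠ 0 :=
      (show ∀ d ∈ [1024, 54, 108], d % 5 ≠ 0 ∧ d % 7 ≠ 0 ∧ d % 11 ≠ 0 ∧ d % 23 ≠ 0 by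
        decide) d hd
    have h := OrderCount.dvd_card_pow_eq_one hdN
    rw [card_pow_eq_one hd0] at h
    rw [← Nat.dvd_iff_mod_eq_zero]
    refine h.trans (dvd_of_eq ?_)
    have hsupp : ∀ m ∈ Nat.divisors d, m ∉ ({1, 2, 3, a, b, c, e} : Finset ℕ) → cnt G m = 0 := by
      intro m hm hm'
      by_contra hc'
      have hmd := Nat.dvd_of_mem_divisors hm
      have h6 := hfit m (Nat.pos_of_ne_zero hc') (by
        intro h6
        simp only [Finset.mem_insert, Finset.mem_singleton, not_or] at h6 hm'
        have hmm := Nat.mod_eq_zero_of_dvd hmd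
        rcases h6 with rfl | rfl | rfl | rfl | rfl | rfl | rfl | rfl | rfl | rfl | rfl <;> omega)
      simp only [Finset.mem_insert, Finset.mem_singleton, List.mem_cons, List.not_mem_nil,
        or_false] at hm' h6
      tauto
    have o : ∀ n ∈ [a, b, c, e], n ∉ ({1, 2, 3} : Finset ℕ) := fun n hn h => (out n hn).2 (by
      simp only [Finset.mem_insert, Finset.mem_singleton] at h ⊢
      rcases h with h | h | h <;> simp [h])
    calc ∑ m ∈ Nat.divisors d, cnt G m
        = ∑ m ∈ Nat.divisors d,
            if m ∈ ({1, 2, 3, a, b, c, e} : Finset ℕ) then cnt G m else 0 :=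
          Finset.sum_congr rfl fun m hm => by
            split
            · rfl
            · exact hsupp m hm ‹_›
      _ = ∑ m ∈ ({1, 2, 3, a, b, c, e} : Finset ℕ),
            if m ∈ Nat.divisors d then cnt G m else 0 := by
          rw [← Finset.sum_filter, ← Finset.sum_filter, Finset.filter_mem_eq_inter,
            Finset.filter_mem_eq_inter, Finset.inter_comm]
      _ = solCount a b c e d := by
          rw [sum_seven _ hdist o, c1, c2, c3, ha, hb, hc, he]
          simp only [Nat.mem_divisors, ne_eq, hd0, not_false_iff, and_true, Nat.dvd_iff_mod_eq_zero,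
            solCount, Nat.mod_one, if_pos]
  have hadm : admissible a b c e = true := by
    simp only [admissible, Bool.and_eq_true, List.all_eq_true, beq_iff_eq, Bool.or_eq_true,
      bne_iff_ne, List.contains_iff_mem]
    refine ⟨⟨by omega, hsol⟩, fun x hx y hy => ?_⟩
    by_cases hxy : x % y = 0
    · exact Or.inr (hdiv x hx y (Nat.dvd_of_mod_eq_zero hxy) (by
        simp only [cands, List.mem_cons, List.not_mem_nil, or_false] at hy
        rcases hy with rfl | rfl | rfl | rfl | rfl | rfl <;> decide))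
    · exact Or.inl hxy
  obtain ⟨rfl, rfl, rfl, rfl⟩ := eq_of_admissible (hcand a (by simp)) (hcand b (by simp))
    (hcand c (by simp)) (hcand e (by simp)) hadm
  exact ⟨ha, hb, hc, he⟩

theorem ord_mem (g : G) :
    orderOf g ∈ ({1, 2, 3, 4, 5, 6, 7, 8, 10, 11, 12, 14, 15, 21, 23} : Finset ℕ) := by
  by_contra h
  simp only [Finset.mem_insert, Finset.mem_singleton, not_or] at h
  have hn := cnt_pos_of_orderOf g
  have h' : orderOf g ∉ ({1, 2, 3, 5, 7, 10, 11, 14, 15, 21, 23} : Finset ℕ) := by
    simp only [Finset.mem_insert, Finset.mem_singleton, not_or]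
    omega
  have hv := cnt_other hG hmem hex hn h'
  obtain ⟨h4, h8, h6, h12⟩ := exists_rest hG hmem hex
  have key : ∀ m : ℕ, orderOf g ≠ m → cnt G (orderOf g) ≠ cnt G m := fun m hm e =>
    hm (cnt_inj hG hex hn e)
  have k4 := key 4 (by omega)
  have k6 := key 6 (by omega)
  have k8 := key 8 (by omega)
  have k12 := key 12 (by omega)
  omega

theorem isSimpleGroup : IsSimpleGroup G := by
  classical
  cases nonempty_fintype G
  haveI : Nontrivial G := Finite.one_lt_card_iff_nontrivial.mp (by rw [hG]; norm_num)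
  refine ⟨fun N hN => ?_⟩
  haveI := hN
  by_contra hne
  rw [not_or] at hne
  have hmul : Nat.card N * N.index = 244823040 := hG ▸ N.card_mul_index
  have hidx : 1 < N.index := by
    rcases Nat.lt_or_ge 1 N.index with h | h
    · exact h
    · exfalso
      have h1 : N.index = 1 := le_antisymm h (Nat.one_le_iff_ne_zero.mpr N.index_ne_zero_of_finite)
      exact hne.2 (Subgroup.index_eq_one.mp h1)
  have hN1 : Nat.card N ≠ 1 := fun h => hne.1 (Subgroup.card_eq_one.mp h)
  have hin : ∀ g : G, Nat.Coprime (orderOf g) N.index → g ∈ N := fun g hg =>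
    M11Order.mem_of_coprime_index hg
  have hNfin : Nat.card N = #{g : G | g ∈ N} := by
    rw [Nat.card_eq_fintype_card, Fintype.card_subtype]
  -- the elements of order prime to the index
  set s : Finset ℕ :=
    ({1, 5, 7, 10, 11, 14, 15, 21, 23} : Finset ℕ).filter fun n => Nat.Coprime n N.index with hs
  have hlo : ∑ n ∈ s, cnt G n ≤ Nat.card N := by
    rw [← card_orderOf_mem, hNfin]
    exact Finset.card_le_card fun g hg => Finset.mem_filter.mpr ⟨Finset.mem_univ g,
      hin g (Finset.mem_filter.mp (Finset.mem_filter.mp hg).2).2⟩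
  rw [hs, Finset.sum_filter, Finset.sum_insert (by decide), Finset.sum_insert (by decide),
    Finset.sum_insert (by decide), Finset.sum_insert (by decide), Finset.sum_insert (by decide),
    Finset.sum_insert (by decide), Finset.sum_insert (by decide), Finset.sum_insert (by decide),
    Finset.sum_singleton, if_pos (Nat.coprime_one_left _), cnt_one,
    cnt_five hG hmem hex, cnt_seven hG hmem hex, cnt_ten hG hmem hex, cnt_eleven hG hmem hex,
    cnt_fourteen hG hmem hex, cnt_fifteen hG hmem hex, cnt_twentyone hG hmem hex,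
    cnt_twentythree hG hmem hex] at hlo
  -- free action of the elements of order 11 and 23
  have hfree : ∀ p : ℕ, p = 11 ∨ p = 23 → Nat.card N % p ≤ 1 := by
    intro p hp
    haveI hf : Fact p.Prime := ⟨by rcases hp with rfl | rfl <;> norm_num⟩
    by_cases hd : p ∣ Nat.card N
    · rw [Nat.mod_eq_zero_of_dvd hd]
      exact Nat.zero_le 1
    obtain ⟨y, hy⟩ := exists_prime_orderOf_dvd_card' (G := G) p (by
      rw [hG]; rcases hp with rfl | rfl <;> norm_num)
    refine le_of_eq (M11Order.free_card N hy (fun a => ⟨fun ha => hN.conj_mem a ha y, fun ha => by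
      simpa [mul_assoc] using hN.conj_mem _ ha y⁻¹⟩) fun k hk hc => ?_)
    have hok : orderOf k ∣ Nat.card N := by simpa using orderOf_dvd_natCard (⟨k, hk⟩ : N)
    have hcop : (orderOf y).Coprime (orderOf k) := by
      rw [hy]
      exact hf.out.coprime_iff_not_dvd.2 fun h => hd (h.trans hok)
    have hyk : orderOf (y * k) = p * orderOf k := by
      rw [(show Commute y k from hc).orderOf_mul_eq_mul_orderOf_of_coprime hcop, hy]
    have h1 := orderOf_eleven_or hG hmem hex hp (g := y * k) (hyk ▸ dvd_mul_right p _)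
    refine orderOf_eq_one_iff.mp (Nat.eq_of_mul_eq_mul_left hf.out.pos ?_)
    rw [← hyk, h1, mul_one]
  have hdvd : N.index ∣ 27648 * 8855 := Dvd.intro_left (Nat.card N) (hmul.trans (by norm_num))
  obtain ⟨i, j, hi, hj, hij⟩ := Nat.dvd_mul.mp hdvd
  have hcard : Nat.card N = 244823040 / N.index := by
    rw [← hmul, Nat.mul_div_cancel _ (by omega : 0 < N.index)]
  have hchk := index_check i (Nat.mem_divisors.mpr ⟨hi, by norm_num⟩) j
    (Nat.mem_divisors.mpr ⟨hj, by norm_num⟩) (by rw [hij]; exact hidx) (by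
      rw [hij, ← hmul]
      exact lt_mul_left (by omega) (by have := Nat.card_pos (α := N); omega))
  rw [hij, ← hcard, lowCount] at hchk
  rcases hchk with h | h | h2
  · omega
  · exact h ⟨hfree 11 (Or.inl rfl), hfree 23 (Or.inr rfl)⟩
  -- index two: the elements of order divisible by five do not fit
  have hN2 : Nat.card N = 122411520 := by rw [hcard, h2]
  have hA := OrderCount.dvd_card_dvd_orderOf (G := ↥N) (n := 5) (M := 24482304) (by norm_num)
    (by rw [hN2]; norm_num) (by norm_num)
  have hAeq : Nat.card {g : N // 5 ∣ orderOf g} = #{g : G | g ∈ N ∧ 5 ∣ orderOf g} := by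
    rw [← Fintype.card_subtype, ← Nat.card_eq_fintype_card]
    exact Nat.card_congr
      { toFun := fun g => ⟨g.1.1, g.1.2, by rw [Subgroup.orderOf_coe]; exact g.2⟩
        invFun := fun g => ⟨⟨g.1, g.2.1⟩, by rw [← Subgroup.orderOf_coe]; exact g.2.2⟩
        left_inv := fun g => rfl
        right_inv := fun g => rfl }
  have hlow : cnt G 5 + cnt G 15 ≤ #{g : G | g ∈ N ∧ 5 ∣ orderOf g} := by
    rw [← Finset.sum_pair (f := fun n => cnt G n) (show (5 : ℕ) ≠ 15 by norm_num),
      ← card_orderOf_mem]
    refine Finset.card_le_card fun g hg => Finset.mem_filter.mpr ⟨Finset.mem_univ g, ?_⟩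
    have hg' := (Finset.mem_filter.mp hg).2
    simp only [Finset.mem_insert, Finset.mem_singleton] at hg'
    rcases hg' with e | e <;> exact ⟨hin g (by rw [e, h2]; norm_num), by omega⟩
  have hup : #{g : G | g ∈ N ∧ 5 ∣ orderOf g} +
      #{g : G | orderOf g ∈ ({1, 3, 7, 11, 21, 23} : Finset ℕ)} ≤ Nat.card N := by
    rw [hNfin, ← Finset.card_union_of_disjoint]
    · refine Finset.card_le_card fun g hg => Finset.mem_filter.mpr ⟨Finset.mem_univ g, ?_⟩
      rcases Finset.mem_union.mp hg with h | h
      · exact (Finset.mem_filter.mp h).2.1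
      · have h' := (Finset.mem_filter.mp h).2
        simp only [Finset.mem_insert, Finset.mem_singleton] at h'
        rcases h' with e | e | e | e | e | e <;> exact hin g (by rw [e, h2]; norm_num)
    · refine Finset.disjoint_filter.mpr fun g _ h h' => ?_
      simp only [Finset.mem_insert, Finset.mem_singleton] at h'
      omega
  rw [card_orderOf_mem, Finset.sum_insert (by decide), Finset.sum_insert (by decide),
    Finset.sum_insert (by decide), Finset.sum_insert (by decide), Finset.sum_insert (by decide),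
    Finset.sum_singleton, cnt_one, cnt_three hG hmem hex, cnt_seven hG hmem hex,
    cnt_eleven hG hmem hex, cnt_twentyone hG hmem hex, cnt_twentythree hG hmem hex, hN2] at hup
  rw [cnt_five hG hmem hex, cnt_fifteen hG hmem hex] at hlow
  rw [hAeq] at hA
  omega

end

end Hist

/-- The order and the set of the numbers of elements of each order determine the counts. -/
theorem facts_of_counts {G : Type u} [Group G] [Finite G] (hG : Nat.card G = 244823040)
    (hmem : ∀ n, 0 < Nat.card {g : G // orderOf g = n} → Nat.card {g : G // orderOf g = n} ∈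
      [1, 43263, 712448, 4080384, 5100480, 11658240, 12241152, 15301440, 20401920, 21288960,
        22256640, 23316480, 32643072, 34974720, 40803840])
    (hex : ∀ c ∈ [1, 43263, 712448, 4080384, 5100480, 11658240, 12241152, 15301440, 20401920,
      21288960, 22256640, 23316480, 32643072, 34974720, 40803840],
      ∃ n, c = Nat.card {g : G // orderOf g = n}) : Facts G := by
  have hmem' : ∀ n, 0 < cnt G n → cnt G n ∈ Hist.vals := fun n hn => by
    simpa [Hist.vals, cnt] using hmem n hn
  have hex' : ∀ v ∈ Hist.vals, ∃ n, cnt G n = v := fun v hv => by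
    obtain ⟨n, hn⟩ := hex v (by simpa [Hist.vals] using hv)
    exact ⟨n, hn.symm⟩
  obtain ⟨h4, h8, h6, h12⟩ := Hist.exists_rest hG hmem' hex'
  exact
    { card := hG
      simple := Hist.isSimpleGroup hG hmem' hex'
      ord_mem := Hist.ord_mem hG hmem' hex'
      c2 := Hist.cnt_two hex'
      c3 := Hist.cnt_three hG hmem' hex'
      c4 := h4
      c5 := Hist.cnt_five hG hmem' hex'
      c6 := h6
      c7 := Hist.cnt_seven hG hmem' hex'
      c8 := h8
      c10 := Hist.cnt_ten hG hmem' hex'
      c11 := Hist.cnt_eleven hG hmem' hex'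
      c12 := h12
      c14 := Hist.cnt_fourteen hG hmem' hex'
      c15 := Hist.cnt_fifteen hG hmem' hex'
      c21 := Hist.cnt_twentyone hG hmem' hex'
      c23 := Hist.cnt_twentythree hG hmem' hex' }

end Cfsg.Agent.Lib.M24Nse2
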