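import Cfsg.Agent.Lib.M24Nse2.ModelData
import Cfsg.Agent.Lib.M24Nse2.Hist
import Cfsg.Agent.Lib.Blocks.M24.Classes

/-!
The numbers of elements of each order in the Mathieu group of degree 24.

Twenty-six pairwise non-conjugate elements have classes of sizes at least the listed values, which
sum to the group order, so the classes are exactly those.
-/

set_option autoImplicit false

namespace Cfsg.Agent.Lib.M24Nse2.Model

open Cfsg.Agent.Lib.Compute Cfsg.Agent.Lib.Compute.Mathieu

attribute [local irreducible] mulP packP actP chainCheck pairCheck sift transList elems twins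
  Tree.find

/-- The certified M24. -/
noncomputable abbrev m24Group : Subgroup (Equiv.Perm Cfsg.GolayPt) := genGroup ptCoding m24Gens

/-- The code of an element. -/
noncomputable def m24Enc (g : m24Group) : ℕ := ptCoding.enc (g : Equiv.Perm Cfsg.GolayPt)

theorem card_m24Group : Nat.card m24Group = 244823040 := by
  exact (card_genGroup ptCoding gensOK_m24 m24Chain_ok).trans m24Chain_size

theorem card_M24_eq : Nat.card ↥Cfsg.M24 = 244823040 := by
  rw [← Nat.card_congr (MulEquiv.subgroupCongr m24_eq_gen).toEquiv, card_m24Group]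

theorem m24Enc_inj : Function.Injective m24Enc := fun _ _ h => Subtype.ext (ptCoding.inj h)

theorem m24Enc_one : m24Enc 1 = (permOps 8 24).one := ptCoding.one_enc

theorem m24Enc_mul (g h : m24Group) : m24Enc (g * h) = mulP 8 24 (m24Enc g) (m24Enc h) := by
  unfold m24Enc
  rw [Subgroup.coe_mul]
  show _ = (permOps 8 24).mul _ _
  rw [← ptCoding.mul_enc]

theorem m24Enc_pow (g : m24Group) : ∀ k : ℕ, m24Enc (g ^ k) = codePow (m24Enc g) k
  | 0 => by rw [pow_zero, m24Enc_one]; rfl
  | k + 1 => by rw [pow_succ', m24Enc_mul, m24Enc_pow g k]; rfl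

theorem m24_lift {p : ℕ × ℕ} (h : pairCheck 8 24 m24Chain p = true) :
    ∃ g : m24Group, m24Enc g = p.1 := by
  obtain ⟨hok, hle⟩ := gensOK_of_pairCheck ptEquiv (by decide) gensOK_m24 m24Chain_ok
    (T := [p]) (by simp [h])
  obtain ⟨g, -, h1, -⟩ := hok p (List.mem_singleton_self p)
  exact ⟨⟨g, hle (mem_genGroup_of_enc _ (List.mem_singleton_self p) h1)⟩, h1⟩

theorem repChain_ok : ∀ b, chainCheck (permOps 8 24) m24Gens (repChain b) = true
  | true => m24InvChain_ok
  | false => m24Chain_ok

theorem m24_mem_twins {x y g : m24Group} (b : Bool) (h : g * x = y * g) :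
    m24Enc g ∈ twins (permOps 8 24) (m24Enc x) (m24Enc y) (repChain b) :=
  enc_mem_twins ptCoding gensOK_m24 (repChain_ok b) g.2 (congrArg Subtype.val h)

/-- Orders of the twenty-six class representatives. -/
def ords : Fin 26 → ℕ :=
  ![1, 2, 2, 3, 3, 4, 4, 4, 5, 6, 6, 7, 7, 8, 10, 11, 12, 12, 14, 14, 15, 15, 21, 21, 23, 23]

/-- Orders of the centralizers of the representatives. -/
def cents : Fin 26 → ℕ := ![244823040, 21504, 7680, 1080, 504, 384, 128, 96, 60, 24, 24, 42, 42,
  16, 20, 11, 12, 12, 14, 14, 15, 15, 21, 21, 23, 23]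

/-- Sizes of the twenty-six classes. -/
def sizes : Fin 26 → ℕ := ![1, 11385, 31878, 226688, 485760, 637560, 1912680, 2550240, 4080384,
  10200960, 10200960, 5829120, 5829120, 15301440, 12241152, 22256640, 20401920, 20401920, 17487360,
  17487360, 16321536, 16321536, 11658240, 11658240, 10644480, 10644480]

theorem size_mul : ∀ i, sizes i * cents i = 244823040 := by decide +kernel

theorem ord_pos : ∀ i, 0 < ords i := by decide +kernel

theorem size_sum : ∑ i, sizes i = 244823040 := by decide +kernel

theorem rep_spec : ∀ i : Fin 25, (repAt i).2.1 = ords i.succ ∧ (repAt i).2.2.1 = cents i.succ := by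
  decide +kernel

theorem centOK_all {i : ℕ} (h2 : 2 ≤ i) (hi : i < 25) : centOK i = true := by
  rcases lt_or_ge i 6 with h | h
  · exact List.all_eq_true.1 cent_low _ (by rw [List.mem_range'_1]; omega)
  rcases lt_or_ge i 13 with h' | h'
  · exact List.all_eq_true.1 cent_mid _ (by rw [List.mem_range'_1]; omega)
  · exact List.all_eq_true.1 cent_high _ (by rw [List.mem_range'_1]; omega)

/-- A centralizer with a certificate. -/
theorem card_cent_of_centCheck {p : ℕ × ℕ} {CG : List (ℕ × ℕ)} {CL : List Lvl} {n : ℕ}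
    (h : Blocks.M24.centCheck p CG CL = true) (hn : Nat.beq (chainSize CL) n = true) {x : m24Group}
    (hx : m24Enc x = p.1) : Nat.card (Subgroup.centralizer ({x} : Set m24Group)) = n := by
  have hc := h
  simp only [Blocks.M24.centCheck, Bool.and_eq_true] at hc
  obtain ⟨⟨⟨⟨⟨hp, hch⟩, -⟩, -⟩, -⟩, -⟩ := hc
  obtain ⟨hok, hle⟩ := Blocks.M24.gens_ok_of_check (T := CG)
    (List.all_eq_true.2 fun a ha => List.all_eq_true.1 hp a (List.mem_cons_of_mem _ ha))
  rw [← Nat.eq_of_beq_eq_true hn, ← card_genGroup ptCoding hok hch]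
  refine Nat.card_eq_of_bijective
    (fun g => (⟨((g : m24Group) : Equiv.Perm Cfsg.GolayPt),
      (Blocks.M24.commute_iff_mem h hx).1 (Subgroup.mem_centralizer_singleton_iff.1 g.2)⟩ :
        genGroup ptCoding CG)) ⟨fun a b hab => Subtype.ext (Subtype.ext (Subtype.mk.inj hab)),
      fun k => ⟨⟨⟨k.1, hle k.2⟩, Subgroup.mem_centralizer_singleton_iff.2
        ((Blocks.M24.commute_iff_mem h hx).2 k.2)⟩, rfl⟩⟩

theorem rep_exists (i : Fin 25) :
    ∃ x : m24Group, m24Enc x = (repAt i).1.1 ∧ orderOf x = ords i.succ ∧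
      Nat.card (Subgroup.centralizer ({x} : Set m24Group)) ≤ cents i.succ := by
  classical
  have hmem : repAt i ∈ nseReps := by
    have hi : (i : ℕ) < nseReps.length := i.isLt
    rw [repAt, ← List.getElem_eq_getD (h := hi)]
    exact List.getElem_mem hi
  obtain ⟨x, hx⟩ := m24_lift (List.all_eq_true.1 nseReps_pairs _ (List.mem_map_of_mem hmem))
  have ho := List.all_eq_true.1 nseReps_orders _ hmem
  simp only [Bool.and_eq_true, List.all_eq_true, List.mem_range, Bool.not_eq_true'] at ho
  obtain ⟨hso, hsc⟩ := rep_spec i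
  rw [hso] at ho
  refine ⟨x, hx, (orderOf_eq_iff (ord_pos _)).2 ⟨m24Enc_inj ?_, fun m hm hm0 he => ?_⟩, ?_⟩
  · rw [m24Enc_pow, hx, m24Enc_one]; exact Nat.eq_of_beq_eq_true ho.1
  · have h := ho.2 (m - 1) (by omega)
    rw [Nat.sub_add_cancel hm0, ← hx, ← m24Enc_pow, he, m24Enc_one] at h
    simp at h
  · rcases lt_or_ge (i : ℕ) 2 with h2 | h2
    · rw [← hsc]
      rcases Nat.le_one_iff_eq_zero_or_eq_one.1 (Nat.le_of_lt_succ h2) with h | h
      · rw [h, rep_invA] at hx ⊢
        exact (card_cent_of_centCheck Blocks.M24.invA_cent invA_size hx).le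
      · rw [h, rep_invB] at hx ⊢
        exact (card_cent_of_centCheck Blocks.M24.invB_cent invB_size hx).le
    have hc := Nat.le_of_ble_eq_true (centOK_all h2 i.isLt)
    rw [hsc] at hc
    generalize hL : twins (permOps 8 24) (repAt i).1.1 (repAt i).1.1 (repChain (repAt i).2.2.2) = L
      at hc
    let f : Subgroup.centralizer ({x} : Set m24Group) → L.toFinset := fun g =>
      ⟨m24Enc (g : m24Group), by
        rw [List.mem_toFinset, ← hL, ← hx]
        exact m24_mem_twins _ (Subgroup.mem_centralizer_singleton_iff.1 g.2)⟩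
    have hf : Function.Injective f := fun a b hab => by
      have h := congrArg Subtype.val hab
      simp only [f] at h
      exact Subtype.ext (m24Enc_inj h)
    refine (Nat.card_le_card_of_injective f hf).trans ?_
    rw [Nat.card_eq_fintype_card, Fintype.card_coe]
    exact (L.toFinset_card_le).trans hc

/-- The chosen representatives, the identity first. -/
noncomputable def elem : Fin 26 → m24Group := Fin.cases 1 fun i => (rep_exists i).choose

theorem elem_succ (i : Fin 25) : m24Enc (elem i.succ) = (repAt i).1.1 :=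
  (rep_exists i).choose_spec.1

theorem elem_order : ∀ i, orderOf (elem i) = ords i :=
  Fin.cases (by simp [elem, ords]) fun i => (rep_exists i).choose_spec.2.1

theorem elem_cent : ∀ i, Nat.card (Subgroup.centralizer ({elem i} : Set m24Group)) ≤ cents i :=
  Fin.cases ((Subgroup.card_le_card_group _).trans_eq card_m24Group) fun i =>
    (rep_exists i).choose_spec.2.2

theorem ord_zero_unique : ∀ j : Fin 26, ords j = ords 0 → j = 0 := by decide +kernel

theorem split_index : ∀ a b : Fin 25, a < b → ords a.succ = ords b.succ →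
    2 ≤ (a : ℕ) ∨ ((a : ℕ) = 0 ∧ (b : ℕ) = 1) := by decide +kernel

theorem elem_not_conj {i j : Fin 26} (hij : i < j) : ¬ IsConj (elem i) (elem j) := by
  intro hc
  obtain ⟨g, hg⟩ := isConj_iff.1 hc
  have ho : ords i = ords j := by
    rw [← elem_order, ← elem_order, ← hg]
    exact (MulAut.conj g).orderOf_eq (elem i) |>.symm
  have hi : i ≠ 0 := by
    rintro rfl
    exact absurd (ord_zero_unique j ho.symm) hij.ne'
  obtain ⟨a, rfl⟩ := Fin.exists_succ_eq.2 hi
  have hj : j ≠ 0 := fun h0 => by rw [h0] at hij; simp at hij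
  obtain ⟨b, rfl⟩ := Fin.exists_succ_eq.2 hj
  have hab : a < b := Fin.succ_lt_succ_iff.1 hij
  rcases split_index a b hab ho with h2 | ⟨ha, hb⟩
  swap
  · have e1 := elem_succ a
    have e2 := elem_succ b
    rw [ha, rep_invA] at e1
    rw [hb, rep_invB] at e2
    have c1 := card_cent_of_centCheck Blocks.M24.invA_cent invA_size e1
    have c2 := card_cent_of_centCheck Blocks.M24.invB_cent invB_size e2
    have hcomm : ∀ x : m24Group, x ∈ Subgroup.centralizer ({elem a.succ} : Set m24Group) ↔
        MulAut.conj g x ∈ Subgroup.centralizer ({elem b.succ} : Set m24Group) := fun x => by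
      rw [Subgroup.mem_centralizer_singleton_iff, Subgroup.mem_centralizer_singleton_iff, ← hg,
        ← MulAut.conj_apply, ← map_mul, ← map_mul, (MulAut.conj g).injective.eq_iff]
    rw [Nat.card_congr ((MulAut.conj g).toEquiv.subtypeEquiv hcomm), c2] at c1
    norm_num at c1
  have hm := m24_mem_twins (repAt a).2.2.2 (mul_inv_eq_iff_eq_mul.1 hg)
  rw [elem_succ, elem_succ] at hm
  have h := List.all_eq_true.1 (List.all_eq_true.1 nseReps_split a (List.mem_range.2 a.isLt)) b
    (List.mem_range.2 b.isLt)
  rw [(rep_spec a).1, (rep_spec b).1, ho] at h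
  simp only [Bool.or_eq_true, Bool.not_eq_true', Bool.and_eq_false_iff] at h
  rcases h with ((h | h) | h) | h
  · have h' : Nat.blt (a : ℕ) b = true := by rw [Nat.blt_eq]; exact Fin.lt_def.1 hab
    rw [h'] at h
    exact Bool.noConfusion h
  · have h' : Nat.blt 1 (a : ℕ) = true := by rw [Nat.blt_eq]; omega
    rw [h'] at h
    exact Bool.noConfusion h
  · simp at h
  · rw [List.isEmpty_iff.1 h] at hm
    exact List.not_mem_nil hm

/-- The number of elements of order `n` in the certified M24. -/
theorem card_m24Group_order_eq (n : ℕ) : Nat.card {g : m24Group // orderOf g = n} =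
    ∑ i ∈ Finset.univ.filter (fun i => ords i = n), sizes i := by
  classical
  let cls : Fin 26 → Finset m24Group := fun i => Finset.univ.filter (IsConj (elem i))
  have hcls : ∀ i, sizes i ≤ (cls i).card := by
    intro i
    have h := MulAction.card_orbit_mul_card_stabilizer_eq_card_group (ConjAct m24Group) (elem i)
    rw [← Nat.card_eq_fintype_card, ← Nat.card_eq_fintype_card, ← Nat.card_eq_fintype_card] at h
    have hG : Nat.card (ConjAct m24Group) = 244823040 := card_m24Group
    have hO : Nat.card (MulAction.orbit (ConjAct m24Group) (elem i)) = (cls i).card := by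
      have he : MulAction.orbit (ConjAct m24Group) (elem i) = (↑(cls i) : Set m24Group) := by
        ext g
        rw [ConjAct.mem_orbit_conjAct, SetLike.mem_coe]
        simp only [cls, Finset.mem_filter, Finset.mem_univ, true_and]
        exact isConj_comm
      rw [he, Nat.card_coe_set_eq, Set.ncard_coe_finset]
    have hS : Nat.card (MulAction.stabilizer (ConjAct m24Group) (elem i)) ≤ cents i := by
      rw [ConjAct.stabilizer_eq_centralizer]
      exact elem_cent i
    rw [hG, hO, ← size_mul i] at h
    have hp : 0 < cents i := Nat.pos_of_ne_zero fun h0 => by simpa [h0] using size_mul i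
    refine Nat.le_of_mul_le_mul_right ?_ hp
    rw [← h]
    exact Nat.mul_le_mul_left _ hS
  have hdisj : (↑(Finset.univ : Finset (Fin 26)) : Set (Fin 26)).PairwiseDisjoint cls := by
    intro i _ j _ hij
    rw [Function.onFun, Finset.disjoint_left]
    intro g hi hj
    simp only [cls, Finset.mem_filter, Finset.mem_univ, true_and] at hi hj
    rcases lt_or_gt_of_ne hij with h | h
    · exact elem_not_conj h (hi.trans hj.symm)
    · exact elem_not_conj h (hj.trans hi.symm)
  have hsum : ∑ i, (cls i).card = 244823040 ∧ ∀ g, ∃ i, g ∈ cls i := by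
    have h1 : 244823040 ≤ ∑ i, (cls i).card :=
      size_sum ▸ Finset.sum_le_sum fun i _ => hcls i
    have hG : Fintype.card m24Group = 244823040 := by
      rw [← Nat.card_eq_fintype_card, card_m24Group]
    have h2 : (Finset.univ.biUnion cls).card = ∑ i, (cls i).card := Finset.card_biUnion hdisj
    have h3 : (Finset.univ.biUnion cls).card ≤ 244823040 := hG ▸ Finset.card_le_univ _
    refine ⟨by omega, fun g => ?_⟩
    have h4 : Finset.univ.biUnion cls = Finset.univ :=
      Finset.eq_univ_of_card _ (by omega)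
    simpa using Finset.ext_iff.1 h4 g
  have heq : ∀ i, (cls i).card = sizes i := fun i =>
    (((Finset.sum_eq_sum_iff_of_le fun i _ => hcls i).1 (size_sum.trans hsum.1.symm)) i
      (Finset.mem_univ i)).symm
  have hord : ∀ {i g}, g ∈ cls i → orderOf g = ords i := by
    intro i g hg
    simp only [cls, Finset.mem_filter, Finset.mem_univ, true_and] at hg
    obtain ⟨c, rfl⟩ := isConj_iff.1 hg
    rw [← elem_order i]
    exact (MulAut.conj c).orderOf_eq (elem i)
  have hset : (Finset.univ.filter fun g : m24Group => orderOf g = n) =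
      (Finset.univ.filter fun i => ords i = n).biUnion cls := by
    ext g
    simp only [Finset.mem_biUnion, Finset.mem_filter, Finset.mem_univ, true_and]
    refine ⟨fun hg => ?_, fun ⟨i, hi, hg⟩ => (hord hg).trans hi⟩
    obtain ⟨i, hi⟩ := hsum.2 g
    exact ⟨i, (hord hi).symm.trans hg, hi⟩
  rw [Nat.card_eq_fintype_card, Fintype.card_subtype, hset,
    Finset.card_biUnion (hdisj.subset (by simp))]
  exact Finset.sum_congr rfl fun i _ => heq i

/-- The number of elements of order `n` in M24. -/
theorem card_M24_order_eq (n : ℕ) : Nat.card {g : ↥Cfsg.M24 // orderOf g = n} =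
    ∑ i ∈ Finset.univ.filter (fun i => ords i = n), sizes i := by
  rw [← card_m24Group_order_eq n]
  let e := MulEquiv.subgroupCongr m24_eq_gen.symm
  exact Nat.card_congr (e.toEquiv.subtypeEquiv fun g => by
    rw [show e.toEquiv g = e g from rfl, e.orderOf_eq])

/-- The fifteen values. -/
def valList : List ℕ := [1, 43263, 712448, 4080384, 5100480, 11658240, 12241152, 15301440,
  20401920, 21288960, 22256640, 23316480, 32643072, 34974720, 40803840]

theorem sum_mem : ∀ i : Fin 26,
    ∑ j ∈ Finset.univ.filter (fun j => ords j = ords i), sizes j ∈ valList := by decide +kernel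

theorem exists_sum : ∀ k : Fin 15, ∃ i : Fin 26,
    valList.getD k 0 = ∑ j ∈ Finset.univ.filter (fun j => ords j = ords i), sizes j := by
  decide +kernel

theorem valList_pos : ∀ c ∈ valList, 0 < c := by decide +kernel

/-- The numbers of elements of equal order in M24. -/
theorem m24_count_set :
    {c : ℕ | 0 < c ∧ ∃ n : ℕ, c = Nat.card {g : ↥Cfsg.M24 // orderOf g = n}} =
      {c | c ∈ valList} := by
  ext c
  simp only [card_M24_order_eq, Set.mem_ofPred_eq]
  constructor
  · rintro ⟨hc, n, rfl⟩
    obtain ⟨i, hi, -⟩ := Finset.exists_ne_zero_of_sum_ne_zero hc.ne'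
    rw [Finset.mem_filter] at hi
    obtain ⟨-, rfl⟩ := hi
    exact sum_mem i
  · intro hc
    obtain ⟨k, hk, rfl⟩ := List.getElem_of_mem hc
    obtain ⟨i, hi⟩ := exists_sum ⟨k, hk⟩
    rw [List.getD_eq_getElem _ _ hk] at hi
    exact ⟨valList_pos _ (List.getElem_mem hk), ords i, hi⟩

universe u

/-- The hypotheses of the recognition statement give `Facts`. -/
theorem facts_of_same_counts {G : Type u} [Group G] [Finite G]
    (hcard : Nat.card G = Nat.card ↥Cfsg.M24)
    (hnse : {c : ℕ | 0 < c ∧ ∃ n : ℕ, c = Nat.card {g : G // orderOf g = n}} =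
      {c : ℕ | 0 < c ∧ ∃ n : ℕ, c = Nat.card {g : ↥Cfsg.M24 // orderOf g = n}}) : Facts G := by
  rw [m24_count_set] at hnse
  refine facts_of_counts (hcard.trans card_M24_eq) (fun n hn => ?_) (fun c hc => ?_)
  · exact (Set.ext_iff.1 hnse _).1 ⟨hn, n, rfl⟩
  · exact ((Set.ext_iff.1 hnse c).2 hc).2

end Cfsg.Agent.Lib.M24Nse2.Model
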